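import Groth.Agent.AlgSpLib.GeomLift
import Groth.Agent.AlgSpLib.DecentPoints
import Groth.Agent.AlgSpLib.HasAt
import Groth.Agent.AlgSpLib.RelDim
import Groth.Agent.AlgSpLib.RelDim2
import Groth.Agent.AlgSpLib.TrdegInv
import Groth.Agent.CycPushLib.Closed
import Groth.Agent.DimFormulaLib.Main
import Groth.Prelude.Def_EssDim
import Groth.Prelude.Def_StCurv2

/-!
# Field-valued points of spaces of bounded relative dimension over a field are defined over small fields

A point of a quasi-separated algebraic space is defined over the field of its monic representative, and that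
field embeds into the residue field of a point of an atlas, whose transcendence degree is bounded by the
fibre dimension.
-/

set_option autoImplicit false
set_option linter.style.haveILetI false
set_option backward.isDefEq.respectTransparency false
set_option backward.isDefEq.respectTransparency.types false
universe u

open CategoryTheory CategoryTheory.Limits AlgebraicGeometry Opposite AlgSp

noncomputable section

namespace EdFibLib

/-- The residue transcendence degree of a morphism of spectra of fields. -/
theorem resTrdeg_spec {A B : Type u} [Field A] [Field B] (g : A →+* B) (y : Spec (CommRingCat.of B)) :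
    Dual3.resTrdeg (Spec.map (CommRingCat.ofHom g)) y = @Algebra.trdeg A B _ _ g.toAlgebra := by
  let f := Spec.map (CommRingCat.ofHom g)
  haveI hi : ∀ (C : Type u) [Field C] (z : Spec (CommRingCat.of C)),
      IsIso ((Spec (CommRingCat.of C)).fromSpecResidueField z) := fun C _ z => by
    haveI : Subsingleton ↥(Spec (CommRingCat.of C)) := inferInstanceAs (Subsingleton (PrimeSpectrum C))
    haveI : Surjective ((Spec (CommRingCat.of C)).fromSpecResidueField z) :=
      ⟨fun w => ⟨IsLocalRing.closedPoint _, Subsingleton.elim _ _⟩⟩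
    haveI : IsClosedImmersion ((Spec (CommRingCat.of C)).fromSpecResidueField z) :=
      isClosed_singleton_iff_isClosedImmersion.1 (Set.subsingleton_of_subsingleton.isClosed)
    exact isIso_of_isClosedImmersion_of_surjective _
  let a := Spec.preimage ((Spec (CommRingCat.of A)).fromSpecResidueField (f y))
  let b := Spec.preimage ((Spec (CommRingCat.of B)).fromSpecResidueField y)
  haveI : IsIso (Spec.map a) := by rw [Spec.map_preimage]; exact hi A _
  haveI : IsIso (Spec.map b) := by rw [Spec.map_preimage]; exact hi B _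
  haveI : IsIso a := by
    obtain ⟨a', ha'⟩ : ∃ a', Spec.map a' = inv (Spec.map a) := ⟨Spec.preimage _, Spec.map_preimage _⟩
    exact ⟨a', Spec.map_injective (by simp [ha']), Spec.map_injective (by simp [ha'])⟩
  haveI : IsIso b := by
    obtain ⟨b', hb'⟩ : ∃ b', Spec.map b' = inv (Spec.map b) := ⟨Spec.preimage _, Spec.map_preimage _⟩
    exact ⟨b', Spec.map_injective (by simp [hb']), Spec.map_injective (by simp [hb'])⟩
  have hsq : a ≫ f.residueFieldMap y = CommRingCat.ofHom g ≫ b := by
    apply Spec.map_injective
    rw [Spec.map_comp, Spec.map_comp, Spec.map_preimage, Spec.map_preimage]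
    exact Scheme.Hom.SpecMap_residueFieldMap_fromSpecResidueField f y
  unfold Dual3.resTrdeg
  letI := g.toAlgebra
  letI := (f.residueFieldMap y).hom.toAlgebra
  exact (DimFormulaLib.trdeg_congr (asIso a).commRingCatIsoToRingEquiv (asIso b).commRingCatIsoToRingEquiv
    (congrArg CommRingCat.Hom.hom hsq)).symm

variable {k : Type u} [Field k]

/-- Points of a space over `Spec k`: an intermediate field of definition with bounded transcendence degree. -/
theorem exists_descent {L : Type u} [Field L] [Algebra k L] (K : IntermediateField k L) {d : ℕ}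
    {H : Sp (Spec (CommRingCat.of k))} (hH : IsAlgSpace H)
    (a : H ⟶ (yon _).obj (SGA7.pt (K := k) K)) (hlft : AlgSp.LocP @LocallyOfFiniteType a)
    (hqs : AlgSp.IsQuasiSeparatedMor a) (hd : CurvSt.RelDimLE d a)
    (c : (yon _).obj (SGA7.pt (K := k) L) ⟶ H) :
    ∃ M : IntermediateField k L,
      Cardinal.toENat (Algebra.trdeg k M) ≤ Cardinal.toENat (Algebra.trdeg k K) + d ∧
        ∃ c' : (yon _).obj (SGA7.pt (K := k) M) ⟶ H, (yon _).map (EssDim.resPt M.val) ≫ c' = c := by
  let q : FieldPt H := ⟨L, (SGA7.pt (K := k) L).hom, AlgSpLib.yEq c⟩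
  have hq : q.toHom = c := Equiv.symm_apply_apply _ _
  obtain ⟨p, hp, hm, -⟩ := AlgSpLib.isDecent_of_isQuasiSeparatedMor hH hqs (Points.mk q)
  haveI := hm
  obtain ⟨c₀, hc₀, -⟩ := AlgSpLib.existsUnique_factor_of_mono hH p q hp
  -- the field of the monic point
  let φ : k →+* p.K := (Spec.preimage p.str).hom
  letI : Algebra k p.K := φ.toAlgebra
  have hφ : Spec.map (CommRingCat.ofHom φ) = p.str := Spec.map_preimage _
  let g : p.K →+* L := (Spec.preimage c₀.left).hom
  have hg : g.comp φ = algebraMap k L := by
    have : CommRingCat.ofHom φ ≫ CommRingCat.ofHom g = CommRingCat.ofHom (algebraMap k L) := by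
      apply Spec.map_injective
      rw [Spec.map_comp, hφ]
      show Spec.map (Spec.preimage c₀.left) ≫ p.str = _
      rw [Spec.map_preimage]
      exact Over.w c₀
    exact congrArg CommRingCat.Hom.hom this
  let γ : p.K →ₐ[k] L := { g with commutes' := fun r => RingHom.congr_fun hg r }
  let e : p.K ≃ₐ[k] γ.fieldRange := AlgEquiv.ofInjectiveField γ
  let M := γ.fieldRange
  refine ⟨M, ?_, ?_⟩
  · -- an atlas point over the monic point
    obtain ⟨U, au, ha, has⟩ := hH.atlas
    obtain ⟨t, ht⟩ := AlgSpLib.surjective_ofPt has (Points.mk p)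
    obtain ⟨c₁, -, -⟩ := AlgSpLib.existsUnique_factor_of_mono hH p (FieldPt.ofPt au t) ht.symm
    obtain ⟨h, hh⟩ := (yon _).map_surjective (au ≫ a)
    have hE : au ≫ a = (yon _).map h ≫ 𝟙 _ := by rw [Category.comp_id, hh]
    haveI : LocallyOfFiniteType h.left := hlft au (𝟙 _) h ha (repWith_id _ _) hE
    have h1 : FlatMor.fibreDimAt h.left t ≤ (d : WithBot ℕ∞) :=
      (AlgSpLib.hasAtMor_iff (AlgSpLib.etInv_fibreDim fun s => s ≤ (d : WithBot ℕ∞)) ha (repWith_id _ _) hE t).1
        (hd _)
    have h2 : Cardinal.toENat (Dual3.resTrdeg h.left t) ≤ d := by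
      rw [AlgSpLib.fibreDimAt_eq_stalk_add_resTrdeg] at h1
      exact WithBot.coe_le_coe.1 ((le_add_of_nonneg_left ringKrullDim_nonneg_of_nontrivial).trans h1)
    let j := U.left.fromSpecResidueField t
    let z : ↥(Spec (U.left.residueField t)) := IsLocalRing.closedPoint _
    have hz : j z = t := U.left.fromSpecResidueField_apply t z
    haveI : Subsingleton ↥(SGA7.pt (K := k) K).left := inferInstanceAs (Subsingleton (PrimeSpectrum K))
    haveI : Subsingleton ↥p.pt.left := inferInstanceAs (Subsingleton (PrimeSpectrum p.K))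
    have h3 : Dual3.resTrdeg (j ≫ U.hom) z =
        Algebra.trdeg k K + Dual3.resTrdeg h.left t := by
      rw [← Over.w h, ← Category.assoc, AlgSpLib.resTrdeg_comp, AlgSpLib.resTrdeg_comp,
        CycPushLib.trdeg_preimmersion_left j, add_zero]
      congr 1
      · exact resTrdeg_spec (algebraMap k K) _
      · exact congrArg (Dual3.resTrdeg h.left) hz
    have h4 : Dual3.resTrdeg (c₁.left ≫ p.str) z = Dual3.resTrdeg (j ≫ U.hom) z := by
      congr 1
      exact Over.w c₁
    rw [AlgSpLib.resTrdeg_comp] at h4
    have h5 : Algebra.trdeg k p.K ≤ Algebra.trdeg k K + Dual3.resTrdeg h.left t := by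
      rw [← h3, ← h4, ← resTrdeg_spec φ (c₁.left z), hφ]
      exact le_self_add
    have h6 : Algebra.trdeg k M = Algebra.trdeg k p.K := e.trdeg_eq.symm
    rw [h6]
    calc Cardinal.toENat (Algebra.trdeg k p.K)
        ≤ Cardinal.toENat (Algebra.trdeg k K + Dual3.resTrdeg h.left t) := Cardinal.toENat.monotone' h5
      _ = Cardinal.toENat (Algebra.trdeg k K) + Cardinal.toENat (Dual3.resTrdeg h.left t) := map_add _ _ _
      _ ≤ _ := add_le_add le_rfl h2
  · let θ : SGA7.pt (K := k) M ⟶ p.pt := Over.homMk (Spec.map (CommRingCat.ofHom (e : p.K →+* M))) (by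
      show Spec.map _ ≫ p.str = Spec.map _
      rw [← hφ, ← Spec.map_comp]
      congr 1
      exact CommRingCat.hom_ext (RingHom.ext fun r => e.commutes r))
    refine ⟨(yon _).map θ ≫ p.toHom, ?_⟩
    rw [← Category.assoc, ← Functor.map_comp, ← hq]
    refine Eq.trans ?_ hc₀
    congr 2
    refine Over.OverMorphism.ext ?_
    show Spec.map (CommRingCat.ofHom (M.val : M →+* L)) ≫ Spec.map _ = c₀.left
    rw [← Spec.map_comp, ← Spec.map_preimage c₀.left]
    congr 1

end EdFibLib
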