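import Groth.Agent.EdFibLib.Space
import Groth.Agent.AlgStLib.Cover
import Groth.Prelude.Def_StCurv2

/-!
# Descent of objects along representable morphisms of bounded fibre dimension
-/

set_option autoImplicit false
set_option linter.style.haveILetI false
set_option backward.isDefEq.respectTransparency false
set_option backward.isDefEq.respectTransparency.types false
universe u

open CategoryTheory CategoryTheory.Limits AlgebraicGeometry Opposite AlgSp FibCat FibLib AlgSpLib AlgStLib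
open CategoryTheory.Functor (IsPreFibered IsStronglyCartesian)

noncomputable section

namespace EdFibLib

variable {k : Type u} [Field k]

/-- An object descends along with its image, up to `d` in transcendence degree. -/
theorem exists_descends (𝒳 𝒴 : AlgSt.Cat (Spec (CommRingCat.of k))) [IsFibGrpd 𝒳.p] [IsFibGrpd 𝒴.p]
    (F : 𝒳 ⥤ᵇ 𝒴) (d : ℕ)
    (hF : AlgSt.RepByAlgSpWith
      (AlgSp.LocP @LocallyOfFiniteType ⊓ AlgSp.IsQuasiSeparatedMor ⊓ fun _ _ g => CurvSt.RelDimLE d g) F)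
    {L : Type u} [Field L] [Algebra k L] (x : StkCnt.pts 𝒳 L) (K : IntermediateField k L)
    (hK : EssDim.Descends (Gerb.isoClPsh 𝒴)
      (Quot.mk (Gerb.IsoRel 𝒴 (SGA7.pt (K := k) L)) ⟨F.obj x.1, (F.w_obj x.1).trans x.2⟩) K) :
    ∃ M : IntermediateField k L,
      Cardinal.toENat (Algebra.trdeg k M) ≤ Cardinal.toENat (Algebra.trdeg k K) + d ∧
        EssDim.Descends (Gerb.isoClPsh 𝒳) (Quot.mk (Gerb.IsoRel 𝒳 (SGA7.pt (K := k) L)) x) M := by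
  obtain ⟨y₀, φ, hφ⟩ := (EssDim.descends_isoCl_iff 𝒴 _ K).1 hK
  let T := SGA7.pt (K := k) L
  let B := SGA7.pt (K := k) K
  let r : T ⟶ B := EssDim.resPt K.val
  let fb : 𝒴.p.Fiber B := ⟨y₀.1, y₀.2⟩
  let u : AlgSt.ofSch B ⥤ᵇ 𝒴 := BasedFunctor.comp (AlgSt.toOverCat B) (ofPoint fb)
  let o : (AlgSt.ofSch B).obj := ⟨T, ⟨r⟩⟩
  haveI := hφ
  haveI : 𝒴.p.IsStronglyCartesian r (IsPreFibered.pullbackMap fb.2 r) := inferInstance
  let ι : u.obj o ≅ F.obj x.1 :=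
    IsStronglyCartesian.domainIsoOfBaseIso 𝒴.p (f := r) (f' := r) (g := Iso.refl T) (Category.id_comp r).symm φ
      (IsPreFibered.pullbackMap fb.2 r)
  have hι : 𝒴.p.IsHomLift (𝟙 T) ι.hom :=
    IsStronglyCartesian.domainUniqueUpToIso_inv_isHomLift 𝒴.p (f := r) (f' := r) (g := Iso.refl T)
      (Category.id_comp r).symm φ (IsPreFibered.pullbackMap fb.2 r)
  let η : (fp u F).obj := fpObj o x.1 ι hι
  obtain ⟨H, a, hH, ⟨e, he, ⟨β⟩⟩, ⟨hlft, hqs⟩, hd⟩ := (repByAlgSpWith_iff _ F).mp hF B u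
  obtain ⟨-, hE⟩ := (isEquivOver_iff e).mp he
  obtain ⟨z, ez, hez⟩ := hE η
  obtain ⟨Tz, s⟩ := z
  have hTz : Tz = T := (e.w_obj _).symm.trans (@IsHomLift.domain_eq _ _ _ _ (fp u F).p _ _ _ _ (𝟙 T) ez.hom hez)
  subst hTz
  let c : (yon _).obj T ⟶ H := yEq.symm s
  obtain ⟨M, hM, c', hc'⟩ := exists_descent K hH a hlft hqs hd c
  refine ⟨M, hM, ?_⟩
  have hs : H.obj.map (EssDim.resPt M.val).op (yEq c') = s := by
    rw [← yEq_map, hc']
    exact Equiv.apply_symm_apply _ _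
  let z' : Stk.EltObj H.obj := ⟨SGA7.pt (K := k) M, yEq c'⟩
  let ψ : (⟨T, s⟩ : Stk.EltObj H.obj) ⟶ z' := ⟨EssDim.resPt M.val, hs⟩
  have hψ : (AlgSt.ofSp H).p.IsHomLift (EssDim.resPt M.val) ψ :=
    IsHomLift.map (AlgSt.ofSp H).p ψ
  haveI := hψ
  haveI : (fp u F).p.IsHomLift (EssDim.resPt M.val) (e.map ψ) := e.preserves_isHomLift (EssDim.resPt M.val) ψ
  haveI : (fp u F).p.IsHomLift (𝟙 T) ez.hom := hez
  haveI : (fp u F).p.IsHomLift (𝟙 T) ez.inv := inferInstance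
  haveI : (fp u F).p.IsHomLift (EssDim.resPt M.val) (ez.inv ≫ e.map ψ) := inferInstance
  haveI := isHomLift_snd (EssDim.resPt M.val) (ez.inv ≫ e.map ψ)
  refine (EssDim.descends_isoCl_iff 𝒳 x M).2 ⟨⟨(e.obj z').obj.snd, ?_⟩, (ez.inv ≫ e.map ψ).hom.snd, inferInstance⟩
  exact IsHomLift.codomain_eq 𝒳.p (EssDim.resPt M.val) (ez.inv ≫ e.map ψ).hom.snd

theorem edStAt_le (𝒳 𝒴 : AlgSt.Cat (Spec (CommRingCat.of k))) [IsFibGrpd 𝒳.p] [IsFibGrpd 𝒴.p]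
    (F : 𝒳 ⥤ᵇ 𝒴) (d : ℕ)
    (hF : AlgSt.RepByAlgSpWith
      (AlgSp.LocP @LocallyOfFiniteType ⊓ AlgSp.IsQuasiSeparatedMor ⊓ fun _ _ g => CurvSt.RelDimLE d g) F)
    {L : Type u} [Field L] [Algebra k L] (x : StkCnt.pts 𝒳 L) :
    EssDim.edStAt 𝒳 x ≤ EssDim.edStAt 𝒴 ⟨F.obj x.1, (F.w_obj x.1).trans x.2⟩ + d := by
  haveI : Nonempty {K : IntermediateField k L // EssDim.Descends (Gerb.isoClPsh 𝒴)
      (Quot.mk (Gerb.IsoRel 𝒴 (SGA7.pt (K := k) L)) ⟨F.obj x.1, (F.w_obj x.1).trans x.2⟩) K} :=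
    ⟨⟨⊤, EssDim.descends_top _⟩⟩
  unfold EssDim.edStAt EssDim.edAt
  rw [ENat.iInf_add]
  refine le_iInf fun K => ?_
  obtain ⟨M, hM, hMd⟩ := exists_descends 𝒳 𝒴 F d hF x K.1 K.2
  exact (EssDim.edAt_le_of_descends hMd).trans hM

end EdFibLib
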